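import Cfsg.Agent.H353.TwoLong_m3
import Cfsg.Agent.H55.OutGen
import Cfsg.Prelude.Def_KGroupFacts
import Cfsg.Agent.Prune
set_option linter.all false
prune_inst 0x7f00000000000000000000000000000000000000000000000000000000000000000000000000000000000000000000000000000000000000000000000000000000000000000000000000000000000000003fffffffffffffffffffffffffffbeffbdffffffff
open scoped Cfsg.Agent.FastGrp

/-!
# `G` embeds in `Aut T` for an almost simple group (helper57)
-/

set_option autoImplicit false

namespace Cfsg.Agent.H57.TTOut

open Subgroup Cfsg.Agent.H384.TwoTrans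

universe u v

variable {G : Type u} [Group G] {T : Subgroup G}

theorem conj_injective [T.Normal] (hc : centralizer (T : Set G) = ⊥) :
    Function.Injective (MulAut.conjNormal : G →* MulAut T) := by
  rw [injective_iff_map_eq_one]
  intro g hg
  have : g ∈ centralizer (T : Set G) := by
    rw [mem_centralizer_iff]
    intro h hh
    have h1 : MulAut.conjNormal g (⟨h, hh⟩ : T) = ⟨h, hh⟩ := by rw [hg]; rfl
    have h2 := congrArg Subtype.val h1
    rw [MulAut.conjNormal_apply] at h2
    exact (mul_inv_eq_iff_eq_mul.1 h2).symm
  rw [hc] at this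
  exact this

theorem card_mulAut {X : Type*} [Group X] [Finite X] (hz : Subgroup.center X = ⊥) :
    Nat.card (MulAut X) = Nat.card X * Nat.card (Cfsg.Out X) := by
  have h1 : Nat.card (Cfsg.Inn X) = Nat.card X := by
    have hinj : Function.Injective (MulAut.conj : X →* MulAut X) := by
      rw [← MonoidHom.ker_eq_bot_iff]
      rw [eq_bot_iff]
      intro x hx
      rw [← hz, Subgroup.mem_center_iff]
      intro y
      have h2 := DFunLike.congr_fun (MonoidHom.mem_ker.1 hx) y
      rw [MulAut.conj_apply, MulAut.one_apply] at h2
      exact (mul_inv_eq_iff_eq_mul.1 h2).symm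
    exact (Nat.card_congr (MonoidHom.ofInjective hinj).toEquiv).symm
  rw [← h1, mul_comm]
  exact Subgroup.card_eq_card_quotient_mul_card_subgroup _

theorem card_dvd [Finite G] [T.Normal] (hc : centralizer (T : Set G) = ⊥) :
    Nat.card G ∣ Nat.card T * Nat.card (Cfsg.Out T) := by
  have hz : Subgroup.center T = ⊥ := by
    rw [eq_bot_iff]
    intro x hx
    rw [Subgroup.mem_center_iff] at hx
    have h1 : (x : G) ∈ centralizer (T : Set G) := by
      rw [mem_centralizer_iff]
      intro h hh
      exact congrArg Subtype.val (hx ⟨h, hh⟩)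
    rw [hc, Subgroup.mem_bot] at h1
    exact Subtype.ext h1
  rw [← card_mulAut hz]
  have : Finite (MulAut T) := inferInstance
  exact Subgroup.card_dvd_of_injective _ (conj_injective hc)

theorem AS.card_dvd {Ω : Type v} [MulAction G Ω] (A : AS G Ω T) {X : Type*} [Group X] (e : T ≃* X) :
    Nat.card G ∣ Nat.card T * Nat.card (Cfsg.Out X) := by
  have := A.normal
  have := A.finG
  have h := TTOut.card_dvd A.cent
  rwa [Cfsg.Agent.H55.OutGen.card_out_congr e] at h

end Cfsg.Agent.H57.TTOut
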