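import Cfsg.Agent.S2357
import Cfsg.Agent.S1157
import Cfsg.Agent.S1152
import Cfsg.Agent.ChevalleyStructure.ReeCount
import Cfsg.Agent.ClassicalGeometry.PSL2Basic
import Cfsg.Agent.LieRecognition.ReeInv
import Cfsg.Agent.Prune
set_option linter.all false
prune_inst 0x7f00000000000000000000000000000000000000000000000000000000000000000000000000000000000000000000000000000000000000000000000000000000000000000000000000000000000000003fffffffffffffffffffffffffffbeffbdffffffff
open scoped Cfsg.Agent.FastGrp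

/-!
# Involutions of the Ree groups (helper57)

For `m ≥ 1` all the involutions of `²G₂(q)` are conjugate and have centraliser `PSL₂(q) × 2`.
-/

set_option autoImplicit false

namespace Cfsg.Agent.H57.TTRee

open Subgroup Cfsg.Agent.LieRecognition

/-- centralisers of corresponding elements -/
noncomputable def centCongr {G H : Type*} [Group G] [Group H] (e : G ≃* H) (t : G) :
    centralizer ({t} : Set G) ≃* centralizer ({e t} : Set H) :=
  (e.subgroupMap (centralizer ({t} : Set G))).trans (MulEquiv.subgroupCongr (by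
    ext x
    constructor
    · rintro ⟨y, hy, rfl⟩
      have h : y * t = t * y := mem_centralizer_singleton_iff.1 hy
      rw [mem_centralizer_singleton_iff]
      change e y * e t = e t * e y
      rw [← map_mul, h, map_mul]
    · intro hx
      rw [mem_centralizer_singleton_iff] at hx
      refine ⟨e.symm x, ?_, e.apply_symm_apply x⟩
      have : e.symm x * t = t * e.symm x := by
        apply e.injective
        rw [map_mul, map_mul, e.apply_symm_apply, hx]
      exact mem_centralizer_singleton_iff.2 this))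

theorem card_conj {G : Type*} [Group G] [Finite G] (x : G) :
    Nat.card G = Nat.card {y : G // IsConj x y} * Nat.card (centralizer ({x} : Set G)) := by
  have h := ReeInv.card_orbit_conj (⊤ : Subgroup G) x
  rw [Subgroup.card_top, top_inf_eq] at h
  rw [h]
  congr 1
  refine Nat.card_congr (Equiv.subtypeEquivRight fun y => ?_)
  rw [isConj_iff]
  constructor
  · rintro ⟨n, -, hn⟩; exact ⟨n, hn⟩
  · rintro ⟨n, hn⟩; exact ⟨n, mem_top n, hn⟩

variable {K : Type*} [Field K] [Fintype K] {m : ℕ}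

theorem orderOf_two_iff {G : Type*} [Group G] {x : G} : orderOf x = 2 ↔ x ≠ 1 ∧ x * x = 1 := by
  constructor
  · intro h
    refine ⟨?_, ?_⟩
    · rintro rfl; rw [orderOf_one] at h; omega
    · have := pow_orderOf_eq_one x
      rwa [h, pow_two] at this
  · rintro ⟨h1, h2⟩
    exact orderOf_eq_prime (by rw [pow_two]; exact h2) h1

theorem finite_ree (hK : Fintype.card K = 3 ^ (2 * m + 1)) : Finite ↥(Cfsg.Lie.twistedG2 K (3 ^ m)) := by
  apply Nat.finite_of_card_ne_zero
  rw [Cfsg.Agent.ChevalleyStructure.ReeCount.card_twistedG2 hK]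
  have h1 : 0 < 3 ^ (2 * m + 1) := by positivity
  have h2 : 0 < 3 ^ (2 * m + 1) - 1 := by
    have : 3 ^ 1 ≤ 3 ^ (2 * m + 1) := Nat.pow_le_pow_right (by norm_num) (by omega)
    omega
  positivity

theorem ree_conj (hm : 1 ≤ m) (hK : Fintype.card K = 3 ^ (2 * m + 1)) (s t : ↥(Cfsg.Lie.twistedG2 K (3 ^ m)))
    (hs : orderOf s = 2) (ht : orderOf t = 2) : IsConj s t := by
  classical
  have hfin := finite_ree hK
  obtain ⟨a, haH, ha1, ha2⟩ := Cfsg.Agent.S1157.exists_involution hK
  obtain ⟨⟨e⟩, -⟩ := Cfsg.Agent.S1152.result hK a haH ha1 ha2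
  have hodd : Odd (Fintype.card K) := by rw [hK]; exact Odd.pow (by decide)
  have hP := Cfsg.Agent.ClassicalGeometry.PSL2Basic.card_PSL2_odd (F := K) hodd
  have hC : Nat.card (centralizer ({a} : Set ↥(Cfsg.Lie.twistedG2 K (3 ^ m)))) =
      Fintype.card K * (Fintype.card K ^ 2 - 1) := by
    rw [Nat.card_congr e.toEquiv, Nat.card_prod, ← hP, mul_comm]
    congr 1
    rw [Nat.card_congr Multiplicative.toAdd, Nat.card_zmod]
  have hcard := Cfsg.Agent.ChevalleyStructure.ReeCount.card_twistedG2 hK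
  have hcl := card_conj a
  have hnum := (Cfsg.Agent.S2357.result hm hK).1
  have hq3 : 3 ≤ 3 ^ (2 * m + 1) := by
    calc 3 = 3 ^ 1 := rfl
      _ ≤ _ := Nat.pow_le_pow_right (by norm_num) (by omega)
  rw [hC, hcard, hK] at hcl
  set q := 3 ^ (2 * m + 1) with hq
  have hclass : Nat.card {y : ↥(Cfsg.Lie.twistedG2 K (3 ^ m)) // IsConj a y} = q ^ 2 * (q ^ 2 - q + 1) := by
    obtain ⟨r, hr⟩ : ∃ r, q = r + 1 := ⟨q - 1, by omega⟩
    have h1 : q ^ 3 * (q - 1) * (q ^ 3 + 1) = q ^ 2 * (q ^ 2 - q + 1) * (q * (q ^ 2 - 1)) := by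
      rw [hr]
      have e1 : r + 1 - 1 = r := rfl
      have e2 : (r + 1) ^ 2 - 1 = r * (r + 2) := by
        have : (r + 1) ^ 2 = r * (r + 2) + 1 := by ring
        omega
      have e3 : (r + 1) ^ 2 - (r + 1) = r * (r + 1) := by
        have : (r + 1) ^ 2 = r * (r + 1) + (r + 1) := by ring
        omega
      rw [e1, e2, e3]
      ring
    rw [h1] at hcl
    have hpos : 0 < q * (q ^ 2 - 1) := by
      apply Nat.mul_pos (by omega)
      have : 3 ^ 2 ≤ q ^ 2 := Nat.pow_le_pow_left hq3 2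
      omega
    exact (Nat.eq_of_mul_eq_mul_right hpos hcl).symm
  have key : ∀ y : ↥(Cfsg.Lie.twistedG2 K (3 ^ m)), orderOf y = 2 → IsConj a y := by
    have hsub : ({y | IsConj a y} : Set ↥(Cfsg.Lie.twistedG2 K (3 ^ m))) ⊆ {y | orderOf y = 2} := by
      intro y hy
      obtain ⟨c, hc⟩ := isConj_iff.1 (Set.mem_ofPred.1 hy)
      have h2 : orderOf y = orderOf a := by
        rw [← hc]
        exact (MulEquiv.orderOf_eq (MulAut.conj c) a)
      rw [Set.mem_ofPred, h2]
      exact orderOf_two_iff.2 ⟨ha1, ha2⟩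
    have heq := Set.eq_of_subset_of_ncard_le hsub (by
      change Nat.card {y : ↥(Cfsg.Lie.twistedG2 K (3 ^ m)) // orderOf y = 2} ≤
        Nat.card {y : ↥(Cfsg.Lie.twistedG2 K (3 ^ m)) // IsConj a y}
      rw [hnum, hclass]) (Set.toFinite _)
    intro y hy
    have : y ∈ ({y | IsConj a y} : Set ↥(Cfsg.Lie.twistedG2 K (3 ^ m))) := by
      rw [heq]; exact hy
    exact this
  exact (key s hs).symm.trans (key t ht)

theorem ree_cent (hm : 1 ≤ m) (hK : Fintype.card K = 3 ^ (2 * m + 1)) (t : ↥(Cfsg.Lie.twistedG2 K (3 ^ m)))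
    (ht : orderOf t = 2) : Nonempty (↥(centralizer ({t} : Set ↥(Cfsg.Lie.twistedG2 K (3 ^ m)))) ≃*
      Matrix.ProjectiveSpecialLinearGroup (Fin 2) K × Multiplicative (ZMod 2)) := by
  obtain ⟨a, haH, ha1, ha2⟩ := Cfsg.Agent.S1157.exists_involution hK
  obtain ⟨⟨e⟩, -⟩ := Cfsg.Agent.S1152.result hK a haH ha1 ha2
  obtain ⟨c, hc⟩ := isConj_iff.1 (ree_conj hm hK t a ht (orderOf_two_iff.2 ⟨ha1, ha2⟩))
  have hc' : (MulAut.conj c) t = a := hc
  have e1 := centCongr (MulAut.conj c) t
  rw [hc'] at e1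
  exact ⟨(e1.trans e).trans MulEquiv.prodComm⟩

end Cfsg.Agent.H57.TTRee
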